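import Groth.Agent.SchDenseFam19.Algebra
import Mathlib.AlgebraicGeometry.Morphisms.Flat
import Mathlib.AlgebraicGeometry.Morphisms.Immersion

/-!
# Schematic density lifts along a nilpotent ideal with free successive quotients
-/

universe u v

open CategoryTheory CategoryTheory.Limits AlgebraicGeometry TensorProduct

namespace Groth.Agent.SchDenseFam19

theorem app_eq_zero {Y X : Scheme.{u}} (f : Y ⟶ X) (V : X.Opens) (t : Γ(X, V))
    (h : ∀ y : Y, f y ∈ V → ∃ (W : Y.Opens) (hW : W ≤ f ⁻¹ᵁ V), y ∈ W ∧ f.appLE V W hW t = 0) : f.app V t = 0 := by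
  refine TopCat.Presheaf.section_ext Y.sheaf _ _ _ fun y hy => ?_
  refine Eq.trans ?_ (map_zero _).symm
  obtain ⟨W, hW, hyW, h0⟩ := h y hy
  have h2 := (congrArg (Y.presheaf.germ W y hyW) h0).trans (map_zero _)
  refine Eq.trans ?_ h2
  exact (TopCat.Presheaf.germ_res_apply Y.presheaf (homOfLE hW) y hyW _).symm

theorem dense_of_dense_mod_nilpotent {X : Scheme.{u}} (A : CommRingCat.{u}) (p : X ⟶ Spec A)
    (J : Ideal A) (hJ : IsNilpotent J) (hfree : ∀ k : ℕ, Module.Free (A ⧸ J) ((A ⧸ J) ⊗[A] ↥(J ^ k)))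
    {ι : Type v} (Z : ι → Scheme.{u}) (v : ∀ i, Z i ⟶ X) [∀ i, Flat (v i ≫ p)]
    (h0 : ∀ (V : (pullback p (Spec.map (CommRingCat.ofHom (Ideal.Quotient.mk J)))).Opens)
      (t : Γ(pullback p (Spec.map (CommRingCat.ofHom (Ideal.Quotient.mk J))), V)),
      (∀ i, (pullback.map (v i ≫ p) (Spec.map (CommRingCat.ofHom (Ideal.Quotient.mk J))) p
        (Spec.map (CommRingCat.ofHom (Ideal.Quotient.mk J))) (v i) (𝟙 _) (𝟙 _)
        (Category.comp_id _) ((Category.comp_id _).trans (Category.id_comp _).symm)).app V t = 0) → t = 0)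
    (V : X.Opens) (t : Γ(X, V)) (ht : ∀ i, (v i).app V t = 0) : t = 0 := by
  refine TopCat.Presheaf.section_ext X.sheaf _ _ _ fun x hx => ?_
  refine Eq.trans ?_ (map_zero _).symm
  obtain ⟨V', hV', hxV', hV'V⟩ := exists_isAffineOpen_mem_and_subset hx
  suffices h : X.presheaf.map (homOfLE hV'V).op t = 0 by
    have h2 := (congrArg (X.presheaf.germ V' x hxV') h).trans (map_zero _)
    refine Eq.trans ?_ h2
    exact (TopCat.Presheaf.germ_res_apply X.presheaf (homOfLE hV'V) x hxV' _).symm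
  let B : Type u := Γ(X, V')
  letI : Algebra A B := ((Scheme.ΓSpecIso A).inv ≫ p.appLE ⊤ V' le_top).hom.toAlgebra
  let κ : Type _ := Σ i : ι, {W : (Z i).Opens // IsAffineOpen W ∧ W ≤ v i ⁻¹ᵁ V'}
  let N : κ → Type u := fun k => Γ(Z k.1, k.2.1)
  letI : ∀ k, Algebra A (N k) := fun k => ((Scheme.ΓSpecIso A).inv ≫ (v k.1 ≫ p).appLE ⊤ k.2.1 le_top).hom.toAlgebra
  haveI : ∀ k, Module.Flat A (N k) := fun k => by
    have h1 := HasRingHomProperty.appLE @Flat (v k.1 ≫ p) inferInstance ⟨⊤, isAffineOpen_top _⟩ ⟨k.2.1, k.2.2.1⟩ le_top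
    have h2 : ((Scheme.ΓSpecIso A).inv ≫ (v k.1 ≫ p).appLE ⊤ k.2.1 le_top).hom.Flat :=
      (RingHom.Flat.respectsIso.cancel_left_isIso (Scheme.ΓSpecIso A).inv _).mpr h1
    exact h2
  let φ : ∀ k, B →ₐ[A] N k := fun k =>
    { ((v k.1).appLE V' k.2.1 k.2.2.2).hom with
      commutes' := fun a => by
        refine (congrArg (fun m => CommRingCat.Hom.hom m ((Scheme.ΓSpecIso A).inv a))
          (Scheme.Hom.appLE_comp_appLE (v k.1) p ⊤ V' k.2.1 le_top k.2.2.2)).trans ?_
        rfl }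
  refine jointInj_of_mod_nilpotent hJ hfree (fun k => (φ k).toLinearMap) (fun b hb => ?_) _ fun k => ?_
  · let i₀ : Spec (CommRingCat.of (A ⧸ J)) ⟶ Spec A := Spec.map (CommRingCat.ofHom (Ideal.Quotient.mk J))
    have hzero : (pullback.fst p i₀).app V' b = 0 := by
      refine h0 _ _ fun i => ?_
      let m := pullback.map (v i ≫ p) i₀ p i₀ (v i) (𝟙 _) (𝟙 _)
        (Category.comp_id _) ((Category.comp_id _).trans (Category.id_comp _).symm)
      show m.app _ ((pullback.fst p i₀).app V' b) = 0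
      have hm : m ≫ pullback.fst p i₀ = pullback.fst (v i ≫ p) i₀ ≫ v i := pullback.lift_fst _ _ _
      suffices h : (m ≫ pullback.fst p i₀).app V' b = 0 by rwa [Scheme.Hom.comp_app] at h
      refine app_eq_zero _ _ _ fun y hy => ?_
      have hy' : pullback.fst (v i ≫ p) i₀ y ∈ v i ⁻¹ᵁ V' := by
        rw [hm] at hy
        exact hy
      obtain ⟨W, hW, hyW, hWV⟩ := exists_isAffineOpen_mem_and_subset hy'
      let f₀ := pullback.fst (v i ≫ p) i₀
      refine ⟨f₀ ⁻¹ᵁ W, by rw [hm]; exact fun z hz => hWV hz, hyW, ?_⟩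
      let k : κ := ⟨i, W, hW, hWV⟩
      let ρ : N k →+* Γ(pullback (v i ≫ p) i₀, f₀ ⁻¹ᵁ W) := (f₀.app W).hom
      have hρ : ∀ a ∈ J, ρ (algebraMap A (N k) a) = 0 := by
        intro a ha
        have h1 : (v i ≫ p).appLE ⊤ W le_top ≫ f₀.app W =
            i₀.appTop ≫ (pullback.snd (v i ≫ p) i₀).appLE ⊤ (f₀ ⁻¹ᵁ W) le_top := by
          rw [Scheme.Hom.app_eq_appLE, Scheme.Hom.appLE_comp_appLE, Scheme.Hom.appTop, Scheme.Hom.app_eq_appLE]
          refine Eq.trans ?_ (Scheme.Hom.appLE_comp_appLE ..).symm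
          simp only [f₀, pullback.condition]
        refine (congrArg (fun m => CommRingCat.Hom.hom m ((Scheme.ΓSpecIso A).inv a)) h1).trans ?_
        show (pullback.snd (v i ≫ p) i₀).appLE ⊤ _ le_top (i₀.appTop ((Scheme.ΓSpecIso A).inv a)) = 0
        have h2 : i₀.appTop ((Scheme.ΓSpecIso A).inv a) = 0 := by
          refine (congrArg (fun m => CommRingCat.Hom.hom m a)
            (Scheme.ΓSpecIso_inv_naturality (CommRingCat.ofHom (Ideal.Quotient.mk J)))).symm.trans ?_
          show (Scheme.ΓSpecIso (CommRingCat.of (A ⧸ J))).inv (Ideal.Quotient.mk J a) = 0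
          rw [Ideal.Quotient.eq_zero_iff_mem.mpr ha, map_zero]
        rw [h2, map_zero]
      have hkill : ∀ n : N k, n ∈ J • (⊤ : Submodule A (N k)) → ρ n = 0 := fun n hn =>
        Submodule.smul_induction_on hn (fun a ha c _ => by rw [Algebra.smul_def, map_mul, hρ a ha, zero_mul])
          fun c d hc hd => by rw [map_add, hc, hd, add_zero]
      refine Eq.trans ?_ (hkill _ (hb k))
      show _ = ((v i).appLE V' W hWV ≫ f₀.app W) b
      rw [Scheme.Hom.app_eq_appLE, Scheme.Hom.appLE_comp_appLE]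
      simp only [hm]
      rfl
    -- lift `Spec (B / J B)`
    let q : B →+* B ⧸ J.map (algebraMap A B) := Ideal.Quotient.mk _
    let ψ : A ⧸ J →+* B ⧸ J.map (algebraMap A B) := Ideal.Quotient.lift J (q.comp (algebraMap A B)) fun a ha =>
      Ideal.Quotient.eq_zero_iff_mem.mpr (Ideal.mem_map_of_mem _ ha)
    have hcomm : (Spec.map (CommRingCat.ofHom q) ≫ hV'.fromSpec) ≫ p = Spec.map (CommRingCat.ofHom ψ) ≫ i₀ := by
      rw [Category.assoc]
      have e1 : hV'.fromSpec ≫ p = Spec.map (CommRingCat.ofHom (algebraMap A B)) := by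
        rw [RingHom.algebraMap_toAlgebra, CommRingCat.ofHom_hom, Spec.map_comp,
          ← IsAffineOpen.SpecMap_appLE_fromSpec p (isAffineOpen_top _) hV' le_top, IsAffineOpen.fromSpec_top,
          Scheme.isoSpec_Spec_inv]
      refine (congrArg (Spec.map (CommRingCat.ofHom q) ≫ ·) e1).trans ?_
      rw [← Spec.map_comp, ← Spec.map_comp]
      rfl
    let l : Spec (CommRingCat.of (B ⧸ J.map (algebraMap A B))) ⟶ pullback p i₀ := pullback.lift _ _ hcomm
    have hle : (⊤ : (Spec (CommRingCat.of (B ⧸ J.map (algebraMap A B)))).Opens) ≤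
        (Spec.map (CommRingCat.ofHom q) ≫ hV'.fromSpec) ⁻¹ᵁ V' := fun z _ => by
      show hV'.fromSpec (Spec.map (CommRingCat.ofHom q) z) ∈ V'
      rw [← SetLike.mem_coe, ← hV'.range_fromSpec]
      exact ⟨_, rfl⟩
    have h1 : (Spec.map (CommRingCat.ofHom q) ≫ hV'.fromSpec).appLE V' ⊤ hle b = 0 := by
      have h2 : (l ≫ pullback.fst p i₀).appLE V' ⊤ (by rw [pullback.lift_fst]; exact hle) b = 0 := by
        rw [Scheme.Hom.appLE, Scheme.Hom.comp_app]
        show (Spec (CommRingCat.of (B ⧸ J.map (algebraMap A B)))).presheaf.map _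
          (l.app _ ((pullback.fst p i₀).app V' b)) = 0
        rw [hzero, map_zero, map_zero]
      simpa only [l, pullback.lift_fst] using h2
    have h3 : (Spec.map (CommRingCat.ofHom q) ≫ hV'.fromSpec).appLE V' ⊤ hle =
        CommRingCat.ofHom q ≫ (Scheme.ΓSpecIso (CommRingCat.of (B ⧸ J.map (algebraMap A B)))).inv := by
      have hle1 : (⊤ : (Spec (CommRingCat.of B)).Opens) ≤ hV'.fromSpec ⁻¹ᵁ V' := (hV'.fromSpec_preimage_self).ge
      have e2 : hV'.fromSpec.appLE V' ⊤ hle1 = (Scheme.ΓSpecIso (CommRingCat.of B)).inv := by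
        rw [Scheme.Hom.appLE, IsAffineOpen.fromSpec_app_self, Category.assoc, ← Functor.map_comp]
        erw [CategoryTheory.Functor.map_id, Category.comp_id]
        rfl
      refine ((Scheme.Hom.appLE_comp_appLE (Spec.map (CommRingCat.ofHom q)) hV'.fromSpec V' ⊤ ⊤ hle1 le_top).symm).trans ?_
      rw [e2, Scheme.ΓSpecIso_inv_naturality]
      congr 1
    rw [h3] at h1
    have h4 : q b = 0 := (ConcreteCategory.bijective_of_isIso
      (Scheme.ΓSpecIso (CommRingCat.of (B ⧸ J.map (algebraMap A B)))).inv).1 (h1.trans (map_zero _).symm)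
    rw [Ideal.smul_top_eq_map]
    exact Ideal.Quotient.eq_zero_iff_mem.mp h4
  · refine (congrArg (fun m => CommRingCat.Hom.hom m t)
      (Scheme.Hom.map_appLE (v k.1) k.2.2.2 (homOfLE hV'V).op)).trans ?_
    show (Z k.1).presheaf.map _ ((v k.1).app V t) = 0
    rw [ht, map_zero]

end Groth.Agent.SchDenseFam19
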