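import Groth.Agent.SchDenseFam19.Universal
import Mathlib.CategoryTheory.Monoidal.Cartesian.Grp
import Mathlib.Tactic.Group

/-!
# The torsion subschemes of a group scheme as a family of closed subschemes
-/

universe u

open CategoryTheory CategoryTheory.Limits MonoidalCategory CartesianMonoidalCategory MonObj AlgebraicGeometry

namespace Groth.Agent.SchDenseFam19

variable {S : Scheme.{u}} (H : Over S) [GrpObj H]

/-- The kernel of the `n`-th power map. -/
noncomputable def tors (n : ℕ) : Over S :=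
  Over.mk (pullback.snd η[H].left (𝟙 H ^ n : H ⟶ H).left ≫ H.hom)

/-- Its inclusion. -/
noncomputable def torsι (n : ℕ) : tors H n ⟶ H :=
  Over.homMk (pullback.snd η[H].left (𝟙 H ^ n : H ⟶ H).left) rfl

theorem factors_torsι_iff (n : ℕ) {X : Over S} (h : X ⟶ H) : (∃ w : X ⟶ tors H n, w ≫ torsι H n = h) ↔ h ^ n = 1 := by
  have hpow : h ≫ (𝟙 H ^ n) = h ^ n := by rw [MonObj.comp_pow, Category.comp_id]
  rw [over_factors_iff, ← hpow]
  constructor
  · rintro ⟨l, hl⟩
    obtain ⟨hl', hcond⟩ := And.intro hl (pullback.condition (f := η[H].left) (g := (𝟙 H ^ n : H ⟶ H).left))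
    let q : tors H n ⟶ 𝟙_ (Over S) := toUnit _
    have e : torsι H n ≫ (𝟙 H ^ n) = q ≫ η[H] := by
      refine Over.OverMorphism.ext ?_
      refine hcond.symm.trans ?_
      refine congrArg (· ≫ η[H].left) ?_
      show pullback.fst η[H].left (𝟙 H ^ n : H ⟶ H).left = (toUnit (tors H n)).left
      rw [Over.toUnit_left]
      show _ = pullback.snd η[H].left (𝟙 H ^ n : H ⟶ H).left ≫ H.hom
      rw [← Over.w (𝟙 H ^ n : H ⟶ H), ← pullback.condition_assoc]
      exact ((congrArg (_ ≫ ·) (Over.w η[H])).trans (Category.comp_id _)).symm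
    obtain ⟨w, rfl⟩ := (over_factors_iff (torsι H n) h).mpr ⟨l, hl⟩
    rw [Category.assoc, e, ← Category.assoc, toUnit_unique (w ≫ q) (toUnit _), ← Hom.one_def]
  · intro h1
    refine ⟨pullback.lift (toUnit X).left h.left ?_, pullback.lift_snd _ _ _⟩
    have := congrArg CommaMorphism.left h1
    rw [Hom.one_def] at this
    exact this.symm

theorem tors_directed (E : Set ℕ) (hEmul : ∀ m ∈ E, ∀ n ∈ E, m * n ∈ E) (a b : E) :
    ∃ c : E, (∃ w : tors H a ⟶ tors H c, w ≫ torsι H c = torsι H a) ∧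
      ∃ w : tors H b ⟶ tors H c, w ≫ torsι H c = torsι H b := by
  refine ⟨⟨a * b, hEmul _ a.2 _ b.2⟩, (factors_torsι_iff H _ _).mpr ?_, (factors_torsι_iff H _ _).mpr ?_⟩
  · rw [pow_mul, (factors_torsι_iff H a.1 (torsι H a)).mp ⟨𝟙 _, Category.id_comp _⟩, one_pow]
  · rw [pow_mul', (factors_torsι_iff H b.1 (torsι H b)).mp ⟨𝟙 _, Category.id_comp _⟩, one_pow]

end Groth.Agent.SchDenseFam19
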